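/-
helper53 library: products of two conjugates of a fixed 3×3 matrix (Sourour-type LU factorisation).
`ConjTo X M` : `M` is `GL_3`-conjugate to `X` (stated without inverses).
`Good X g`   : `g = B * C` with `B`, `C` both conjugate to `X`.
-/
import Mathlib

set_option autoImplicit false

namespace Cfsg.Agent.Lib.Helper53.ConjProd

open Matrix

variable {K : Type*} [Field K]

/-- `M` is conjugate to `X` by an invertible matrix -/
def ConjTo (X M : Matrix (Fin 3) (Fin 3) K) : Prop :=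
  ∃ U : Matrix (Fin 3) (Fin 3) K, U.det ≠ 0 ∧ M * U = U * X

/-- `g` is a product of two conjugates of `X` -/
def Good (X g : Matrix (Fin 3) (Fin 3) K) : Prop :=
  ∃ B C : Matrix (Fin 3) (Fin 3) K, g = B * C ∧ ConjTo X B ∧ ConjTo X C

theorem ConjTo.conj {X M : Matrix (Fin 3) (Fin 3) K} (h : ConjTo X M)
    (Q Q' : Matrix (Fin 3) (Fin 3) K) (hQ : Q * Q' = 1) : ConjTo X (Q * M * Q') := by
  obtain ⟨U, hU, hMU⟩ := h
  have hQ' : Q' * Q = 1 := mul_eq_one_comm.mp hQ
  have hdQ : Q.det ≠ 0 := by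
    intro h0
    have := congrArg Matrix.det hQ
    rw [Matrix.det_mul, h0, zero_mul, Matrix.det_one] at this
    exact zero_ne_one this
  refine ⟨Q * U, ?_, ?_⟩
  · rw [Matrix.det_mul]; exact mul_ne_zero hdQ hU
  · calc Q * M * Q' * (Q * U) = Q * M * (Q' * Q) * U := by simp only [Matrix.mul_assoc]
      _ = Q * (M * U) := by rw [hQ', Matrix.mul_one, Matrix.mul_assoc]
      _ = Q * U * X := by rw [hMU, Matrix.mul_assoc]

theorem Good.conj {X N g : Matrix (Fin 3) (Fin 3) K} (h : Good X N)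
    (Q : Matrix (Fin 3) (Fin 3) K) (hQ : Q.det ≠ 0) (hg : g * Q = Q * N) : Good X g := by
  obtain ⟨B, C, hN, hB, hC⟩ := h
  have hu : IsUnit Q.det := isUnit_iff_ne_zero.mpr hQ
  have h1 : Q * Q⁻¹ = 1 := Matrix.mul_nonsing_inv Q hu
  have h2 : Q⁻¹ * Q = 1 := Matrix.nonsing_inv_mul Q hu
  refine ⟨Q * B * Q⁻¹, Q * C * Q⁻¹, ?_, hB.conj Q Q⁻¹ h1, hC.conj Q Q⁻¹ h1⟩
  calc g = g * (Q * Q⁻¹) := by rw [h1, Matrix.mul_one]
    _ = (g * Q) * Q⁻¹ := by rw [Matrix.mul_assoc]
    _ = Q * N * Q⁻¹ := by rw [hg]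
    _ = Q * (B * C) * Q⁻¹ := by rw [hN]
    _ = Q * B * (Q⁻¹ * Q) * C * Q⁻¹ := by rw [h2]; simp only [Matrix.mul_assoc, Matrix.one_mul]
    _ = Q * B * Q⁻¹ * (Q * C * Q⁻¹) := by simp only [Matrix.mul_assoc]

theorem det_eq_of_conj {g Q N : Matrix (Fin 3) (Fin 3) K} (hQ : Q.det ≠ 0) (hg : g * Q = Q * N) :
    N.det = g.det := by
  have := congrArg Matrix.det hg
  rw [Matrix.det_mul, Matrix.det_mul, mul_comm] at this
  exact (mul_left_cancel₀ hQ this).symm

/-- a matrix all of whose vectors are eigenvectors is scalar -/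
theorem exists_not_eigen (g : Matrix (Fin 3) (Fin 3) K)
    (hg : ¬ ∃ c : K, g = c • (1 : Matrix (Fin 3) (Fin 3) K)) :
    ∃ e : Fin 3 → K, ¬ ∃ c : K, g *ᵥ e = c • e := by
  by_contra hcon
  push Not at hcon
  apply hg
  obtain ⟨c0, h0⟩ := hcon (Pi.single 0 1)
  obtain ⟨c1, h1⟩ := hcon (Pi.single 1 1)
  obtain ⟨c2, h2⟩ := hcon (Pi.single 2 1)
  obtain ⟨d1, k1⟩ := hcon (Pi.single 0 1 + Pi.single 1 1)
  obtain ⟨d2, k2⟩ := hcon (Pi.single 0 1 + Pi.single 2 1)
  rw [Matrix.mulVec_single_one] at h0 h1 h2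
  rw [Matrix.mulVec_add, Matrix.mulVec_single_one, Matrix.mulVec_single_one] at k1 k2
  have e00 := congrFun h0 0
  have e10 := congrFun h0 1
  have e20 := congrFun h0 2
  have e01 := congrFun h1 0
  have e11 := congrFun h1 1
  have e21 := congrFun h1 2
  have e02 := congrFun h2 0
  have e12 := congrFun h2 1
  have e22 := congrFun h2 2
  have f0 := congrFun k1 0
  have f1 := congrFun k1 1
  have g0 := congrFun k2 0
  have g2 := congrFun k2 2
  simp [Matrix.col_apply] at e00 e10 e20 e01 e11 e21 e02 e12 e22 f0 f1 g0 g2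
  refine ⟨c0, ?_⟩
  have hc1 : c1 = c0 := by
    have : d1 = c0 := by rw [← f0, e00, e01]; ring
    have : d1 = c1 := by rw [← f1, e10, e11]; ring
    simp_all
  have hc2 : c2 = c0 := by
    have : d2 = c0 := by rw [← g0, e00, e02]; ring
    have : d2 = c2 := by rw [← g2, e20, e22]; ring
    simp_all
  ext i j
  fin_cases i <;> fin_cases j <;> simp [*]

/-- the matrix with columns `a`, `b`, `c` -/
def colMat (a b c : Fin 3 → K) : Matrix (Fin 3) (Fin 3) K :=
  Matrix.of fun i j => ![a i, b i, c i] j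

theorem colMat_mulVec (a b c v : Fin 3 → K) :
    colMat a b c *ᵥ v = v 0 • a + v 1 • b + v 2 • c := by
  ext i
  simp [colMat, Matrix.mulVec, dotProduct, Fin.sum_univ_three]
  ring

theorem det_colMat (a b c : Fin 3 → K) :
    (colMat a b c).det = a 0 * b 1 * c 2 - a 0 * c 1 * b 2 - b 0 * a 1 * c 2 + b 0 * c 1 * a 2
      + c 0 * a 1 * b 2 - c 0 * b 1 * a 2 := by
  rw [Matrix.det_fin_three]
  simp [colMat]

/-- Stage 1: a non-scalar matrix is conjugate to one with first column `(1,1,0)`. -/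
theorem stage_one (g : Matrix (Fin 3) (Fin 3) K)
    (hg : ¬ ∃ c : K, g = c • (1 : Matrix (Fin 3) (Fin 3) K)) :
    ∃ Q M : Matrix (Fin 3) (Fin 3) K, Q.det ≠ 0 ∧ g * Q = Q * M ∧ M 0 0 = 1 ∧ M 1 0 = 1 ∧ M 2 0 = 0 := by
  obtain ⟨e, he⟩ := exists_not_eigen g hg
  set y : Fin 3 → K := g *ᵥ e - e with hy
  have hk : ∃ k : Fin 3, (colMat e y (Pi.single k 1)).det ≠ 0 := by
    by_contra hcon
    push Not at hcon
    have h0 := hcon 0
    have h1 := hcon 1
    have h2 := hcon 2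
    rw [det_colMat] at h0 h1 h2
    simp at h0 h1 h2
    apply he
    have hene : e ≠ 0 := by
      intro h0'
      apply he
      exact ⟨0, by rw [h0']; simp⟩
    obtain ⟨i, hi⟩ : ∃ i, e i ≠ 0 := by
      by_contra hc
      push Not at hc
      exact hene (funext hc)
    refine ⟨1 + y i / e i, ?_⟩
    have hge : g *ᵥ e = e + y := by rw [hy]; abel
    rw [hge]
    ext j
    simp only [Pi.add_apply, Pi.smul_apply, smul_eq_mul]
    have key : y j * e i = y i * e j := by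
      fin_cases i <;> fin_cases j <;> simp only [Fin.zero_eta, Fin.mk_one, Fin.reduceFinMk] <;>
        first
          | ring1
          | linear_combination h0
          | linear_combination -h0
          | linear_combination h1
          | linear_combination -h1
          | linear_combination h2
          | linear_combination -h2
    field_simp
    linear_combination key
  obtain ⟨k, hk⟩ := hk
  set Q := colMat e y (Pi.single k 1) with hQ
  have hu : IsUnit Q.det := isUnit_iff_ne_zero.mpr hk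
  have h1 : Q * Q⁻¹ = 1 := Matrix.mul_nonsing_inv Q hu
  have h2 : Q⁻¹ * Q = 1 := Matrix.nonsing_inv_mul Q hu
  refine ⟨Q, Q⁻¹ * g * Q, hk, ?_, ?_⟩
  · rw [← Matrix.mul_assoc, ← Matrix.mul_assoc, h1, Matrix.one_mul]
  · have hcol : (Q⁻¹ * g * Q) *ᵥ (Pi.single 0 1) = Pi.single 0 1 + Pi.single 1 1 := by
      have hQ0 : Q *ᵥ (Pi.single 0 1) = e := by
        rw [hQ, colMat_mulVec]; simp
      have hQ01 : Q *ᵥ (Pi.single 0 1 + Pi.single 1 1) = e + y := by
        rw [hQ, colMat_mulVec]; simp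
      rw [← Matrix.mulVec_mulVec, ← Matrix.mulVec_mulVec, hQ0]
      have hge : g *ᵥ e = e + y := by rw [hy]; abel
      rw [hge, ← hQ01, Matrix.mulVec_mulVec, h2, Matrix.one_mulVec]
    rw [Matrix.mulVec_single_one] at hcol
    have c0 := congrFun hcol 0
    have c1 := congrFun hcol 1
    have c2 := congrFun hcol 2
    simp at c0 c1 c2
    exact ⟨c0, c1, c2⟩


/-- criterion for the first two columns of a conjugate -/
theorem crit (M : Matrix (Fin 3) (Fin 3) K) (r0 r1 r2 : Fin 3 → K) (α β ρ : K)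
    (hR : (colMat r0 r1 r2).det ≠ 0)
    (h0 : M *ᵥ r0 = r0 + α • r1 + β • r2)
    (h1 : M *ᵥ r1 = ρ • (M *ᵥ r0) + r1 + r2) :
    ∃ N : Matrix (Fin 3) (Fin 3) K, M * colMat r0 r1 r2 = colMat r0 r1 r2 * N ∧
      N 0 0 = 1 ∧ N 1 0 = α ∧ N 2 0 = β ∧ N 0 1 = ρ ∧ N 1 1 = ρ * α + 1 ∧ N 2 1 = ρ * β + 1 := by
  set R := colMat r0 r1 r2 with hRdef
  have hu : IsUnit R.det := isUnit_iff_ne_zero.mpr hR
  have i1 : R * R⁻¹ = 1 := Matrix.mul_nonsing_inv R hu
  have i2 : R⁻¹ * R = 1 := Matrix.nonsing_inv_mul R hu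
  refine ⟨R⁻¹ * M * R, ?_, ?_⟩
  · rw [← Matrix.mul_assoc, ← Matrix.mul_assoc, i1, Matrix.one_mul]
  · have hR0 : R *ᵥ (Pi.single 0 1) = r0 := by rw [hRdef, colMat_mulVec]; simp
    have hR1 : R *ᵥ (Pi.single 1 1) = r1 := by rw [hRdef, colMat_mulVec]; simp
    have e0 : R *ᵥ (Pi.single 0 1 + α • Pi.single 1 1 + β • Pi.single 2 1) = r0 + α • r1 + β • r2 := by
      rw [hRdef, colMat_mulVec]; simp
    have e1 : R *ᵥ (ρ • (Pi.single 0 1 + α • Pi.single 1 1 + β • Pi.single 2 1) + Pi.single 1 1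
        + Pi.single 2 1) = ρ • (r0 + α • r1 + β • r2) + r1 + r2 := by
      rw [hRdef, colMat_mulVec]
      ext i
      simp
      ring
    have hc0 : (R⁻¹ * M * R) *ᵥ (Pi.single 0 1)
        = Pi.single 0 1 + α • Pi.single 1 1 + β • Pi.single 2 1 := by
      rw [← Matrix.mulVec_mulVec, ← Matrix.mulVec_mulVec, hR0, h0, ← e0, Matrix.mulVec_mulVec, i2,
        Matrix.one_mulVec]
    have hc1 : (R⁻¹ * M * R) *ᵥ (Pi.single 1 1)
        = ρ • (Pi.single 0 1 + α • Pi.single 1 1 + β • Pi.single 2 1) + Pi.single 1 1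
          + Pi.single 2 1 := by
      rw [← Matrix.mulVec_mulVec, ← Matrix.mulVec_mulVec, hR1, h1, h0, ← e1, Matrix.mulVec_mulVec, i2,
        Matrix.one_mulVec]
    rw [Matrix.mulVec_single_one] at hc0 hc1
    have a0 := congrFun hc0 0
    have a1 := congrFun hc0 1
    have a2 := congrFun hc0 2
    have b0 := congrFun hc1 0
    have b1 := congrFun hc1 1
    have b2 := congrFun hc1 2
    simp at a0 a1 a2 b0 b1 b2
    exact ⟨a0, a1, a2, b0, b1, b2⟩


theorem mulVec_col (M : Matrix (Fin 3) (Fin 3) K) (v : Fin 3 → K) (i : Fin 3) :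
    (M *ᵥ v) i = M i 0 * v 0 + M i 1 * v 1 + M i 2 * v 2 := by
  simp [Matrix.mulVec, dotProduct, Fin.sum_univ_three]

/-- Stage 2: reach leading principal minors `1, 1`. -/
theorem stage_two (M : Matrix (Fin 3) (Fin 3) K) (h00 : M 0 0 = 1) (h10 : M 1 0 = 1)
    (h20 : M 2 0 = 0) (hdet : M.det = 1) :
    ∃ R N : Matrix (Fin 3) (Fin 3) K, R.det ≠ 0 ∧ M * R = R * N ∧ N 0 0 = 1 ∧
      N 1 1 - N 1 0 * N 0 1 = 1 ∧ N 2 1 - N 2 0 * N 0 1 = 1 := by
  by_cases hp3 : M 2 1 = 0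
  · -- invariant plane case
    have hr3 : M 2 2 * (M 1 1 - M 0 1) = 1 := by
      rw [Matrix.det_fin_three, h00, h10, h20, hp3] at hdet
      linear_combination hdet
    have hr3' : M 2 2 ≠ 0 := by
      intro h
      rw [h, zero_mul] at hr3
      exact zero_ne_one hr3
    obtain ⟨s, hs⟩ : ∃ s : K, M 1 2 - M 0 2 - s * M 2 2 ≠ 0 := by
      by_cases h : M 1 2 - M 0 2 = 0
      · exact ⟨1, by rw [h]; simpa using hr3'⟩
      · exact ⟨0, by simpa using h⟩
    set κ := M 1 2 - M 0 2 - s * M 2 2 with hκ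
    set r0 : Fin 3 → K := ![1, 0, 0] with hr0
    set w : Fin 3 → K := ![-s, 0, 1] with hw
    set f : Fin 3 → K := ![-s * (M 2 2 - 1), κ, M 2 2 - 1] with hf
    have hR : (colMat r0 w f).det ≠ 0 := by
      rw [det_colMat]
      simp [hr0, hw, hf]
      exact hs
    obtain ⟨N, hN, n00, n10, n20, n01, n11, n21⟩ := crit M r0 w f (-(M 2 2 - 1) / κ) (1 / κ)
      (M 0 2 + s * (M 2 2 - 1)) hR
      (by
        ext i
        rw [mulVec_col]
        fin_cases i <;> simp [hr0, hw, hf, h00, h10, h20] <;> field_simp <;> ring)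
      (by
        ext i
        simp only [Pi.add_apply, Pi.smul_apply, smul_eq_mul]
        rw [mulVec_col, mulVec_col]
        fin_cases i <;> simp [hr0, hw, hf, h00, h10, h20, hp3, hκ] <;> ring)
    refine ⟨colMat r0 w f, N, hR, hN, n00, ?_, ?_⟩
    · rw [n11, n10, n01]; ring
    · rw [n21, n20, n01]; ring
  · -- cyclic case
    set r0 : Fin 3 → K := ![1, 0, 0] with hr0
    set r1 : Fin 3 → K := ![0, 1, 0] with hr1
    set r2 : Fin 3 → K := ![M 0 1, M 1 1 - 1, M 2 1] with hr2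
    have hR : (colMat r0 r1 r2).det ≠ 0 := by
      rw [det_colMat]
      simp [hr0, hr1, hr2]
      exact hp3
    obtain ⟨N, hN, n00, n10, n20, n01, n11, n21⟩ := crit M r0 r1 r2 1 0 0 hR
      (by
        ext i
        rw [mulVec_col]
        fin_cases i <;> simp [hr0, hr1, hr2, h00, h10, h20])
      (by
        ext i
        simp only [Pi.add_apply, Pi.smul_apply, smul_eq_mul]
        rw [mulVec_col, mulVec_col]
        fin_cases i <;> simp [hr0, hr1, hr2])
    refine ⟨colMat r0 r1 r2, N, hR, hN, n00, ?_, ?_⟩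
    · rw [n11, n10, n01]; ring
    · rw [n21, n20, n01]; ring


end Cfsg.Agent.Lib.Helper53.ConjProd
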