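/-
helper53 library: every non-scalar 3×3 matrix of determinant 1 over a field is a product of two
conjugates of `diag(1, a, a⁻¹)` (`a ≠ 0, ±1`).
-/
import Cfsg.Agent.Lib.Helper53.ConjProd.Basic

set_option autoImplicit false

namespace Cfsg.Agent.Lib.Helper53.ConjProd

open Matrix

variable {K : Type*} [Field K]

/-- the split semisimple element `diag(1, a, a⁻¹)` -/
def Xs (a : K) : Matrix (Fin 3) (Fin 3) K := !![1, 0, 0; 0, a, 0; 0, 0, a⁻¹]

theorem good_param (a : K) (ha0 : a ≠ 0) (ha1 : a ≠ 1) (ha2 : a ≠ -1) (x0 x1 y0 y1 σ : K) :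
    Good (Xs a) !![1, x0, x1; y0, 1 + y0 * x0, σ + y0 * x1; y1, 1 + y1 * x0, 1 + σ + y1 * x1] := by
  have h1 : a - 1 ≠ 0 := sub_ne_zero.mpr ha1
  have h2 : a + 1 ≠ 0 := by
    intro h
    exact ha2 (eq_neg_of_add_eq_zero_left h)
  have h3 : a ^ 2 - 1 ≠ 0 := by
    have : a ^ 2 - 1 = (a - 1) * (a + 1) := by ring
    rw [this]
    exact mul_ne_zero h1 h2
  refine ⟨!![1, 0, 0; y0, a, 0; y1, a, a⁻¹], !![1, x0, x1; 0, a⁻¹, σ / a; 0, 0, a], ?_, ?_, ?_⟩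
  · ext i j
    fin_cases i <;> fin_cases j <;> simp [Matrix.mul_apply, Fin.sum_univ_three] <;> field_simp <;> ring
  · refine ⟨!![1, 0, 0; -y0 / (a - 1), 1, 0; a * (y1 - a * y0 / (a - 1)) / (a - 1), a ^ 2 / (a ^ 2 - 1), 1], ?_, ?_⟩
    · rw [Matrix.det_fin_three]
      simp
    · ext i j
      fin_cases i <;> fin_cases j <;> simp [Xs, Matrix.mul_apply, Fin.sum_univ_three] <;> field_simp <;> ring
  · refine ⟨!![1, (x0 * σ / (a ^ 2 - 1) + x1) / (a - 1), -x0 * a / (a - 1); 0, σ / (a ^ 2 - 1), 1; 0, 1, 0], ?_, ?_⟩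
    · rw [Matrix.det_fin_three]
      simp
    · ext i j
      fin_cases i <;> fin_cases j <;> simp [Xs, Matrix.mul_apply, Fin.sum_univ_three] <;> field_simp <;> ring

theorem good_of_minors (a : K) (ha0 : a ≠ 0) (ha1 : a ≠ 1) (ha2 : a ≠ -1)
    (N : Matrix (Fin 3) (Fin 3) K) (n00 : N 0 0 = 1) (m1 : N 1 1 - N 1 0 * N 0 1 = 1)
    (m2 : N 2 1 - N 2 0 * N 0 1 = 1) (hdet : N.det = 1) : Good (Xs a) N := by
  have key := good_param a ha0 ha1 ha2 (N 0 1) (N 0 2) (N 1 0) (N 2 0) (N 1 2 - N 1 0 * N 0 2)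
  have hN : N = !![1, N 0 1, N 0 2; N 1 0, 1 + N 1 0 * N 0 1, (N 1 2 - N 1 0 * N 0 2) + N 1 0 * N 0 2;
      N 2 0, 1 + N 2 0 * N 0 1, 1 + (N 1 2 - N 1 0 * N 0 2) + N 2 0 * N 0 2] := by
    rw [Matrix.det_fin_three, n00] at hdet
    have e11 : N 1 1 = 1 + N 1 0 * N 0 1 := by linear_combination m1
    have e21 : N 2 1 = 1 + N 2 0 * N 0 1 := by linear_combination m2
    have e22 : N 2 2 = 1 + (N 1 2 - N 1 0 * N 0 2) + N 2 0 * N 0 2 := by
      rw [e11, e21] at hdet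
      linear_combination hdet
    conv_lhs => rw [Matrix.eta_fin_three N]
    rw [n00, ← e11, ← e21, ← e22]
    congr 1
    simp
  rw [hN]
  exact key

/-- Every non-scalar 3×3 matrix of determinant 1 is a product of two conjugates of `diag(1,a,a⁻¹)`. -/
theorem split_main (a : K) (ha0 : a ≠ 0) (ha1 : a ≠ 1) (ha2 : a ≠ -1)
    (g : Matrix (Fin 3) (Fin 3) K) (hdet : g.det = 1)
    (hg : ¬ ∃ c : K, g = c • (1 : Matrix (Fin 3) (Fin 3) K)) : Good (Xs a) g := by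
  obtain ⟨Q, M, hQ, hgQ, h00, h10, h20⟩ := stage_one g hg
  have hdM : M.det = 1 := by rw [det_eq_of_conj hQ hgQ, hdet]
  obtain ⟨R, N, hR, hMR, n00, m1, m2⟩ := stage_two M h00 h10 h20 hdM
  have hdN : N.det = 1 := by rw [det_eq_of_conj hR hMR, hdM]
  exact ((good_of_minors a ha0 ha1 ha2 N n00 m1 m2 hdN).conj R hR hMR).conj Q hQ hgQ

end Cfsg.Agent.Lib.Helper53.ConjProd
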