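/-
helper53 library: over the field with three elements every non-scalar 3×3 matrix of determinant 1
is a product of two conjugates of `diag(1, [[0,-1],[1,0]])` (an element of order 4).
-/
import Cfsg.Agent.Lib.Helper53.ConjProd.Basic

set_option autoImplicit false

namespace Cfsg.Agent.Lib.Helper53.ConjProd

open Matrix

variable {K : Type*} [Field K]

/-- the element of order 4 -/
def X3 : Matrix (Fin 3) (Fin 3) K := !![1, 0, 0; 0, 0, -1; 0, 1, 0]

section three

variable (h3 : (3 : K) = 0) (hK : ∀ x : K, x = 0 ∨ x = 1 ∨ x = -1)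

include h3 hK

omit h3 in
theorem sq_eq_one_of_ne_zero (x : K) (hx : x ≠ 0) : x ^ 2 = 1 := by
  rcases hK x with h | h | h
  · exact absurd h hx
  · rw [h]; ring
  · rw [h]; ring

theorem neg_one_ne_sq (x : K) : x ^ 2 ≠ -1 := by
  have h1 : (1 : K) ≠ -1 := by
    intro h
    have h2 : (2 : K) = 0 := by linear_combination h
    have : (1 : K) = 0 := by linear_combination h3 - h2
    exact one_ne_zero this
  rcases hK x with h | h | h
  · rw [h]; intro h'
    have : (1 : K) = 0 := by linear_combination h'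
    exact one_ne_zero this
  · rw [h]; simpa using h1
  · rw [h]; simpa using h1

/-- lower-left entry of a trace 0, determinant 1 matrix is nonzero -/
theorem ll_ne_zero (b00 b01 b10 b11 : K) (ht : b00 + b11 = 0) (hd : b00 * b11 - b01 * b10 = 1) :
    b10 ≠ 0 := by
  intro h
  apply neg_one_ne_sq h3 hK b00
  have : b11 = -b00 := by linear_combination ht
  rw [this, h] at hd
  linear_combination -hd

theorem good_three_of_factor (x0 x1 y0 y1 b00 b01 b10 b11 c00 c01 c10 c11 : K)
    (hbt : b00 + b11 = 0) (hbd : b00 * b11 - b01 * b10 = 1)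
    (hct : c00 + c11 = 0) (hcd : c00 * c11 - c01 * c10 = 1) :
    Good (X3 : Matrix (Fin 3) (Fin 3) K)
      (!![1, 0, 0; y0, b00, b01; y1, b10, b11] * !![1, x0, x1; 0, c00, c01; 0, c10, c11]) := by
  have hb10 := ll_ne_zero h3 hK b00 b01 b10 b11 hbt hbd
  have hc10 := ll_ne_zero h3 hK c00 c01 c10 c11 hct hcd
  have hb11 : b11 = -b00 := by linear_combination hbt
  have hc11 : c11 = -c00 := by linear_combination hct
  refine ⟨_, _, rfl, ?_, ?_⟩
  · refine ⟨!![1, 0, 0; -((1 + b00) * y0 + b01 * y1), 1, b00; -(b10 * y0 + (1 + b11) * y1), 0, b10], ?_, ?_⟩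
    · rw [Matrix.det_fin_three]
      simp
      exact hb10
    · subst hb11
      ext i j
      fin_cases i <;> fin_cases j <;> simp [X3, Matrix.mul_apply, Fin.sum_univ_three]
      · linear_combination y0 * h3 + y0 * hbd
      · linear_combination -hbd
      · linear_combination y1 * h3 + y1 * hbd
      · ring
  · refine ⟨!![1, x0 * (1 + c00) + x1 * c10, x0 * (1 + c00) + x1 * c10 + x0; 0, 1, c00; 0, 0, c10], ?_, ?_⟩
    · rw [Matrix.det_fin_three]
      simp
      exact hc10
    · subst hc11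
      ext i j
      fin_cases i <;> fin_cases j <;> simp [X3, Matrix.mul_apply, Fin.sum_univ_three]
      · linear_combination (x0 + x0 * c00 + x1 * c10) * h3
      · linear_combination -hcd
      · ring

omit h3 in
theorem add_eq_zero_of_mul_eq_neg_one (β γ : K) (h : β * γ = -1) : β + γ = 0 := by
  have hβ : β ≠ 0 := by
    intro h0; rw [h0, zero_mul] at h
    have : (1 : K) = 0 := by linear_combination h
    exact one_ne_zero this
  have hγ : γ ≠ 0 := by
    intro h0; rw [h0, mul_zero] at h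
    have : (1 : K) = 0 := by linear_combination h
    exact one_ne_zero this
  have h1 := sq_eq_one_of_ne_zero hK β hβ
  have h2 := sq_eq_one_of_ne_zero hK γ hγ
  have : (β + γ) ^ 2 = 0 := by linear_combination h1 + h2 + 2 * h
  exact pow_eq_zero_iff (two_ne_zero) |>.mp this

theorem two_by_two (s00 s01 s10 s11 : K) (hdet : s00 * s11 - s01 * s10 = 1)
    (h : (s00 = 1 ∧ s01 = 0 ∧ s10 = 0 ∧ s11 = 1) ∨ (s00 = -1 ∧ s01 = 0 ∧ s10 = 0 ∧ s11 = -1) ∨
      s00 + s11 = 0) :
    ∃ b00 b01 b10 b11 c00 c01 c10 c11 : K, b00 + b11 = 0 ∧ b00 * b11 - b01 * b10 = 1 ∧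
      c00 + c11 = 0 ∧ c00 * c11 - c01 * c10 = 1 ∧ b00 * c00 + b01 * c10 = s00 ∧
      b00 * c01 + b01 * c11 = s01 ∧ b10 * c00 + b11 * c10 = s10 ∧ b10 * c01 + b11 * c11 = s11 := by
  rcases h with ⟨h1, h2, h3', h4⟩ | ⟨h1, h2, h3', h4⟩ | h
  · refine ⟨0, -1, 1, 0, 0, 1, -1, 0, ?_, ?_, ?_, ?_, ?_, ?_, ?_, ?_⟩ <;> simp [*]
  · refine ⟨0, -1, 1, 0, 0, -1, 1, 0, ?_, ?_, ?_, ?_, ?_, ?_, ?_, ?_⟩ <;> simp [*]
  · have h11 : s11 = -s00 := by linear_combination h
    subst h11
    by_cases hα : s00 = 0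
    · subst hα
      have hbg : s01 * s10 = -1 := by linear_combination -hdet
      have hsum := add_eq_zero_of_mul_eq_neg_one hK s01 s10 hbg
      have h10 : s10 = -s01 := by linear_combination hsum
      subst h10
      refine ⟨1, 1, 1, -1, s01, -s01, -s01, -s01, ?_, ?_, ?_, ?_, ?_, ?_, ?_, ?_⟩
      · ring
      · linear_combination -h3
      · ring
      · linear_combination 2 * hbg - h3
      · ring
      · linear_combination -s01 * h3
      · linear_combination s01 * h3
      · ring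
    · have hα2 := sq_eq_one_of_ne_zero hK s00 hα
      have hbg : s01 * s10 = 1 := by linear_combination -hdet - hα2 - h3
      refine ⟨0, -s01, s10, 0, s01 * s10, -s00 * s01, -s00 * s10, -(s01 * s10), ?_, ?_, ?_, ?_, ?_, ?_, ?_, ?_⟩
      · ring
      · linear_combination hbg
      · ring
      · linear_combination (-s01 * s10 - 1 - s00 ^ 2) * hbg - hα2 - h3
      · linear_combination s00 * hbg
      · linear_combination s01 * hbg
      · linear_combination s10 * hbg
      · linear_combination -s00 * hbg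

/-- a matrix with `N 0 0 = 1` whose Schur complement is `±1` or has trace `0` -/
theorem good_three_of_schur (N : Matrix (Fin 3) (Fin 3) K) (n00 : N 0 0 = 1) (hdet : N.det = 1)
    (h : (N 1 1 - N 1 0 * N 0 1 = 1 ∧ N 1 2 - N 1 0 * N 0 2 = 0 ∧ N 2 1 - N 2 0 * N 0 1 = 0 ∧
          N 2 2 - N 2 0 * N 0 2 = 1) ∨
        (N 1 1 - N 1 0 * N 0 1 = -1 ∧ N 1 2 - N 1 0 * N 0 2 = 0 ∧ N 2 1 - N 2 0 * N 0 1 = 0 ∧
          N 2 2 - N 2 0 * N 0 2 = -1) ∨
        (N 1 1 - N 1 0 * N 0 1) + (N 2 2 - N 2 0 * N 0 2) = 0) :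
    Good (X3 : Matrix (Fin 3) (Fin 3) K) N := by
  have hS : (N 1 1 - N 1 0 * N 0 1) * (N 2 2 - N 2 0 * N 0 2)
      - (N 1 2 - N 1 0 * N 0 2) * (N 2 1 - N 2 0 * N 0 1) = 1 := by
    rw [Matrix.det_fin_three, n00] at hdet
    linear_combination hdet
  obtain ⟨b00, b01, b10, b11, c00, c01, c10, c11, hbt, hbd, hct, hcd, e00, e01, e10, e11⟩ :=
    two_by_two h3 hK _ _ _ _ hS h
  have key := good_three_of_factor h3 hK (N 0 1) (N 0 2) (N 1 0) (N 2 0) b00 b01 b10 b11 c00 c01 c10 c11
    hbt hbd hct hcd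
  have hN : N = !![1, 0, 0; N 1 0, b00, b01; N 2 0, b10, b11] *
      !![1, N 0 1, N 0 2; 0, c00, c01; 0, c10, c11] := by
    ext i j
    fin_cases i <;> fin_cases j <;> simp [Matrix.mul_apply, Fin.sum_univ_three, n00]
    · linear_combination -e00
    · linear_combination -e01
    · linear_combination -e10
    · linear_combination -e11
  rw [hN]
  exact key

omit h3 in
/-- Stage 2 over the field with three elements. -/
theorem stage_two_three (M : Matrix (Fin 3) (Fin 3) K) (h00 : M 0 0 = 1) (h10 : M 1 0 = 1)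
    (h20 : M 2 0 = 0) (hdet : M.det = 1) :
    ∃ R N : Matrix (Fin 3) (Fin 3) K, R.det ≠ 0 ∧ M * R = R * N ∧ N 0 0 = 1 ∧
      ((N 1 1 - N 1 0 * N 0 1 = 1 ∧ N 1 2 - N 1 0 * N 0 2 = 0 ∧ N 2 1 - N 2 0 * N 0 1 = 0 ∧
          N 2 2 - N 2 0 * N 0 2 = 1) ∨
        (N 1 1 - N 1 0 * N 0 1 = -1 ∧ N 1 2 - N 1 0 * N 0 2 = 0 ∧ N 2 1 - N 2 0 * N 0 1 = 0 ∧
          N 2 2 - N 2 0 * N 0 2 = -1) ∨
        (N 1 1 - N 1 0 * N 0 1) + (N 2 2 - N 2 0 * N 0 2) = 0) := by
  have hM : M = !![1, M 0 1, M 0 2; 1, M 1 1, M 1 2; 0, M 2 1, M 2 2] := by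
    conv_lhs => rw [Matrix.eta_fin_three M]
    rw [h00, h10, h20]
  have key : ∀ s : K, M * !![1, 0, -s; 0, 1, 0; 0, 0, 1] = !![1, 0, -s; 0, 1, 0; 0, 0, 1] *
      !![1, M 0 1 + s * M 2 1, M 0 2 - s + s * M 2 2; 1, M 1 1, M 1 2 - s; 0, M 2 1, M 2 2] := by
    intro s
    conv_lhs => rw [hM]
    ext i j
    fin_cases i <;> fin_cases j <;> simp [Matrix.mul_apply, Fin.sum_univ_three] <;> ring
  have hdR : ∀ s : K, (!![1, 0, -s; 0, 1, 0; 0, 0, 1] : Matrix (Fin 3) (Fin 3) K).det ≠ 0 := by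
    intro s
    rw [Matrix.det_fin_three]
    simp
  by_cases hp3 : M 2 1 = 0
  · have hr3 : M 2 2 * (M 1 1 - M 0 1) = 1 := by
      rw [Matrix.det_fin_three, h00, h10, h20, hp3] at hdet
      linear_combination hdet
    have hr3' : M 2 2 ≠ 0 := by
      intro h
      rw [h, zero_mul] at hr3
      exact zero_ne_one hr3
    have hδ : M 1 1 - M 0 1 ≠ 0 := by
      intro h
      rw [h, mul_zero] at hr3
      exact zero_ne_one hr3
    have hsq := sq_eq_one_of_ne_zero hK _ hr3'
    have hδeq : M 1 1 - M 0 1 = M 2 2 := by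
      have : (M 1 1 - M 0 1) = (M 2 2) ^ 2 * (M 1 1 - M 0 1) := by rw [hsq, one_mul]
      rw [this]
      linear_combination M 2 2 * hr3
    refine ⟨_, _, hdR ((M 1 2 - M 0 2) / M 2 2), key _, by simp, ?_⟩
    simp only [Matrix.of_apply, Matrix.cons_val', Matrix.cons_val_zero, Matrix.cons_val_one,
      Matrix.cons_val_two, Matrix.empty_val', Matrix.cons_val_fin_one, Matrix.head_cons,
      Matrix.tail_cons, Matrix.head_fin_const]
    rcases hK (M 2 2) with h | h | h
    · exact absurd h hr3'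
    · left
      refine ⟨?_, ?_, ?_, ?_⟩
      · rw [hp3]; linear_combination hδeq + h
      · field_simp; ring
      · rw [hp3]; ring
      · rw [h]; ring
    · right; left
      refine ⟨?_, ?_, ?_, ?_⟩
      · rw [hp3]; linear_combination hδeq + h
      · field_simp; ring
      · rw [hp3]; ring
      · rw [h]; ring
  · refine ⟨_, _, hdR ((M 1 1 - M 0 1 + M 2 2) / M 2 1), key _, by simp, ?_⟩
    right; right
    simp only [Matrix.of_apply, Matrix.cons_val', Matrix.cons_val_zero, Matrix.cons_val_one,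
      Matrix.cons_val_two, Matrix.empty_val', Matrix.cons_val_fin_one, Matrix.head_cons,
      Matrix.tail_cons, Matrix.head_fin_const]
    field_simp
    ring

/-- Over the field with three elements, every non-scalar 3×3 matrix of determinant 1 is a product
of two conjugates of `X3`. -/
theorem three_main (g : Matrix (Fin 3) (Fin 3) K) (hdet : g.det = 1)
    (hg : ¬ ∃ c : K, g = c • (1 : Matrix (Fin 3) (Fin 3) K)) :
    Good (X3 : Matrix (Fin 3) (Fin 3) K) g := by
  obtain ⟨Q, M, hQ, hgQ, h00, h10, h20⟩ := stage_one g hg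
  have hdM : M.det = 1 := by rw [det_eq_of_conj hQ hgQ, hdet]
  obtain ⟨R, N, hR, hMR, n00, hS⟩ := stage_two_three hK M h00 h10 h20 hdM
  have hdN : N.det = 1 := by rw [det_eq_of_conj hR hMR, hdM]
  exact ((good_three_of_schur h3 hK N n00 hdN hS).conj R hR hMR).conj Q hQ hgQ

end three

end Cfsg.Agent.Lib.Helper53.ConjProd
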