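/-
helper53 library: from products of two conjugates in `M₃(K)` to `SL₃(K)` and `PSL₃(K)`.
-/
import Cfsg.Agent.Lib.Helper53.ConjProd.Split
import Cfsg.Agent.Lib.Helper53.ConjProd.Three

set_option autoImplicit false

namespace Cfsg.Agent.Lib.Helper53.ConjProd

open Matrix

variable {K : Type*} [Field K]

/-- the determinant-correcting diagonal matrix `diag(d, 1, 1)` -/
def Dd (d : K) : Matrix (Fin 3) (Fin 3) K := !![d, 0, 0; 0, 1, 0; 0, 0, 1]

theorem det_Dd (d : K) : (Dd d).det = d := by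
  rw [Dd, Matrix.det_fin_three]
  simp

theorem Xs_comm_Dd (a d : K) : Xs a * Dd d = Dd d * Xs a := by
  ext i j
  fin_cases i <;> fin_cases j <;> simp [Xs, Dd, Matrix.mul_apply, Fin.sum_univ_three]

theorem X3_comm_Dd (d : K) : (X3 : Matrix (Fin 3) (Fin 3) K) * Dd d = Dd d * X3 := by
  ext i j
  fin_cases i <;> fin_cases j <;> simp [X3, Dd, Matrix.mul_apply, Fin.sum_univ_three]

/-- a matrix conjugate in `GL₃` to `X` (which commutes with all `diag(d,1,1)`) is conjugate in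
`SL₃`. -/
theorem sl_conj_of_conjTo (X : SpecialLinearGroup (Fin 3) K)
    (hcomm : ∀ d : K, X.1 * Dd d = Dd d * X.1) (M : SpecialLinearGroup (Fin 3) K)
    (h : ConjTo X.1 M.1) : ∃ u : SpecialLinearGroup (Fin 3) K, M = u * X * u⁻¹ := by
  obtain ⟨U, hU, hMU⟩ := h
  have hdet : (U * Dd (U.det)⁻¹).det = 1 := by
    rw [Matrix.det_mul, det_Dd, mul_inv_cancel₀ hU]
  obtain ⟨u, hu⟩ : ∃ u : SpecialLinearGroup (Fin 3) K, u.1 = U * Dd (U.det)⁻¹ := ⟨⟨_, hdet⟩, rfl⟩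
  refine ⟨u, ?_⟩
  rw [eq_mul_inv_iff_mul_eq]
  have key : (↑(M * u) : Matrix (Fin 3) (Fin 3) K) = ↑(u * X) := by
    simp only [Matrix.SpecialLinearGroup.coe_mul]
    rw [hu, ← Matrix.mul_assoc, hMU, Matrix.mul_assoc, hcomm, Matrix.mul_assoc]
  exact Subtype.ext key

theorem sl_good (X : SpecialLinearGroup (Fin 3) K)
    (hcomm : ∀ d : K, X.1 * Dd d = Dd d * X.1) (g : SpecialLinearGroup (Fin 3) K)
    (hg : Good X.1 g.1) :
    ∃ u v : SpecialLinearGroup (Fin 3) K, g = (u * X * u⁻¹) * (v * X * v⁻¹) := by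
  obtain ⟨B, C, hBC, ⟨U, hU, hBU⟩, ⟨V, hV, hCV⟩⟩ := hg
  have hB : B.det = 1 := by rw [← det_eq_of_conj hU hBU]; exact X.2
  have hC : C.det = 1 := by rw [← det_eq_of_conj hV hCV]; exact X.2
  obtain ⟨B', hB'⟩ : ∃ B' : SpecialLinearGroup (Fin 3) K, B'.1 = B := ⟨⟨_, hB⟩, rfl⟩
  obtain ⟨C', hC'⟩ : ∃ C' : SpecialLinearGroup (Fin 3) K, C'.1 = C := ⟨⟨_, hC⟩, rfl⟩
  obtain ⟨u, hu⟩ := sl_conj_of_conjTo X hcomm B' ⟨U, hU, by rw [hB']; exact hBU⟩
  obtain ⟨v, hv⟩ := sl_conj_of_conjTo X hcomm C' ⟨V, hV, by rw [hC']; exact hCV⟩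
  refine ⟨u, v, ?_⟩
  rw [← hu, ← hv]
  have key : (↑g : Matrix (Fin 3) (Fin 3) K) = ↑(B' * C') := by
    simp only [Matrix.SpecialLinearGroup.coe_mul]
    rw [hB', hC']
    exact hBC
  exact Subtype.ext key

/-- If every non-scalar matrix of determinant 1 is a product of two `GL₃`-conjugates of `X`,
then every non-identity element of `PSL₃(K)` is a product of two conjugates of the image
of `X`. -/
theorem psl_good (X : SpecialLinearGroup (Fin 3) K)
    (hcomm : ∀ d : K, X.1 * Dd d = Dd d * X.1)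
    (hgood : ∀ g : Matrix (Fin 3) (Fin 3) K, g.det = 1 →
      (¬ ∃ c : K, g = c • (1 : Matrix (Fin 3) (Fin 3) K)) → Good X.1 g)
    (g : Matrix.ProjectiveSpecialLinearGroup (Fin 3) K) (hg : g ≠ 1) :
    ∃ u v : Matrix.ProjectiveSpecialLinearGroup (Fin 3) K,
      g = (u * (QuotientGroup.mk X) * u⁻¹) * (v * (QuotientGroup.mk X) * v⁻¹) := by
  obtain ⟨g', rfl⟩ := QuotientGroup.mk_surjective g
  have hnc : g' ∉ Subgroup.center (SpecialLinearGroup (Fin 3) K) := fun h =>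
    hg ((QuotientGroup.eq_one_iff _).mpr h)
  have hns : ¬ ∃ c : K, g'.1 = c • (1 : Matrix (Fin 3) (Fin 3) K) := by
    rintro ⟨c, hc⟩
    apply hnc
    rw [Matrix.SpecialLinearGroup.mem_center_iff]
    refine ⟨c, ?_, ?_⟩
    · have h1 := g'.2
      rw [hc, Matrix.det_smul, Matrix.det_one, mul_one] at h1
      simpa using h1
    · rw [hc]
      ext i j
      simp [Matrix.scalar_apply, Matrix.diagonal_apply, Matrix.one_apply]
  obtain ⟨u, v, h⟩ := sl_good X hcomm g' (hgood g'.1 g'.2 hns)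
  refine ⟨QuotientGroup.mk u, QuotientGroup.mk v, ?_⟩
  rw [h]
  simp only [QuotientGroup.mk_mul, QuotientGroup.mk_inv]

/-- `diag(1, a, a⁻¹)` as an element of `SL₃`. -/
def XsSL (a : K) (ha : a ≠ 0) : SpecialLinearGroup (Fin 3) K :=
  ⟨Xs a, by rw [Xs, Matrix.det_fin_three]; simp [ha]⟩

/-- `X3` as an element of `SL₃`. -/
def X3SL : SpecialLinearGroup (Fin 3) K :=
  ⟨X3, by rw [X3, Matrix.det_fin_three]; simp⟩

theorem XsSL_pow (a : K) (ha : a ≠ 0) (n : ℕ) (hn : a ^ n = 1) : XsSL a ha ^ n = 1 := by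
  have hX : Xs a = Matrix.diagonal ![1, a, a⁻¹] := by
    ext i j
    fin_cases i <;> fin_cases j <;> simp [Xs]
  have key : (↑(XsSL a ha ^ n) : Matrix (Fin 3) (Fin 3) K) =
      ↑(1 : SpecialLinearGroup (Fin 3) K) := by
    simp only [Matrix.SpecialLinearGroup.coe_pow, Matrix.SpecialLinearGroup.coe_one]
    change Xs a ^ n = 1
    rw [hX, Matrix.diagonal_pow, ← Matrix.diagonal_one]
    congr 1
    funext i
    fin_cases i <;> simp [hn]
  exact Subtype.ext key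

theorem X3SL_pow : (X3SL : SpecialLinearGroup (Fin 3) K) ^ 4 = 1 := by
  have h2 : (X3 : Matrix (Fin 3) (Fin 3) K) ^ 2 = !![1, 0, 0; 0, -1, 0; 0, 0, -1] := by
    rw [pow_two]
    ext i j
    fin_cases i <;> fin_cases j <;> simp [X3, Matrix.mul_apply, Fin.sum_univ_three]
  have key : (↑((X3SL : SpecialLinearGroup (Fin 3) K) ^ 4) : Matrix (Fin 3) (Fin 3) K) =
      ↑(1 : SpecialLinearGroup (Fin 3) K) := by
    simp only [Matrix.SpecialLinearGroup.coe_pow, Matrix.SpecialLinearGroup.coe_one]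
    change (X3 : Matrix (Fin 3) (Fin 3) K) ^ 4 = 1
    have h4 : (4 : ℕ) = 2 * 2 := rfl
    rw [h4, pow_mul, h2, pow_two]
    ext i j
    fin_cases i <;> fin_cases j <;> simp [Matrix.mul_apply, Fin.sum_univ_three]
  exact Subtype.ext key

end Cfsg.Agent.Lib.Helper53.ConjProd
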